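import Mathlib
import Cfsg.Agent.H370.AAM.Perf

/-!
# S3677: groups with the order and the class sizes of a simple group: interface (helper431)

`Same G S` : `G`, `S` have the same order and the same set of centralizer orders (equivalently class sizes).

`LatW S p r` : the conditions on the centralizer orders of `S` divisible by `r` which give `NoEdge G r p`
(perfect prime lemma, `H370.AAM.noEdge`).

`Lat S p r m` : moreover the only centralizer order divisible by `r`, prime to `p` and different from `|S|` is `m`.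
-/

set_option autoImplicit false

namespace Cfsg.Agent.H431.CS

open Subgroup Cfsg.Agent.H364 Cfsg.Agent.H370.AAM

universe u v w

/-- the same order and the same set of centralizer orders -/
structure Same (G : Type u) [Group G] (S : Type v) [Group S] : Prop where
  card : Nat.card G = Nat.card S
  co : Co G = Co S

theorem Same.of_cs {G : Type u} [Group G] [Finite G] {S : Type v} [Group S] [Finite S]
    (hcard : Nat.card G = Nat.card S)
    (hcs : Set.range (fun g : G => (Subgroup.centralizer ({g} : Set G)).index) =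
      Set.range (fun g : S => (Subgroup.centralizer ({g} : Set S)).index)) : Same G S :=
  ⟨hcard, co_eq hcard hcs⟩

theorem card_cent_congr {A : Type v} [Group A] {B : Type w} [Group B] (e : A ≃* B) (g : A) :
    Nat.card (Subgroup.centralizer ({g} : Set A)) = Nat.card (Subgroup.centralizer ({e g} : Set B)) := by
  refine Nat.card_congr ⟨fun x => ⟨e x, mem_cent.2 ((mem_cent.1 x.2).map e)⟩,
    fun x => ⟨e.symm x, mem_cent.2 ?_⟩, fun x => ?_, fun x => ?_⟩
  · have := (mem_cent.1 x.2).map e.symm
    simpa using this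
  · exact Subtype.ext (e.symm_apply_apply _)
  · exact Subtype.ext (e.apply_symm_apply _)

/-- the centralizer orders are invariant under isomorphisms -/
theorem co_congr {S : Type v} [Group S] {T : Type w} [Group T] (e : S ≃* T) : Co S = Co T := by
  apply Set.Subset.antisymm
  · rintro _ ⟨g, rfl⟩
    exact ⟨e g, (card_cent_congr e g).symm⟩
  · rintro _ ⟨g, rfl⟩
    exact ⟨e.symm g, (card_cent_congr e.symm g).symm⟩

theorem Same.congr {G : Type u} [Group G] {S : Type v} [Group S] {T : Type w} [Group T] (h : Same G S) (e : S ≃* T) :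
    Same G T :=
  ⟨h.card.trans (Nat.card_congr e.toEquiv), h.co.trans (co_congr e)⟩

/-- every centralizer order of `G` is one of `S` -/
theorem Same.mem {G : Type u} [Group G] {S : Type v} [Group S] (h : Same G S) (g : G) :
    Nat.card (Subgroup.centralizer ({g} : Set G)) ∈ Co S := h.co ▸ mem_co g

/-- every centralizer order of `S` occurs in `G` -/
theorem Same.exists_of_mem {G : Type u} [Group G] {S : Type v} [Group S] (h : Same G S) {c : ℕ} (hc : c ∈ Co S) :
    ∃ g : G, Nat.card (Subgroup.centralizer ({g} : Set G)) = c := by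
  rw [← h.co] at hc
  exact hc

/-- the conditions of the perfect prime lemma -/
structure LatW (S : Type v) [Group S] (p r : ℕ) : Prop where
  h0 : ∃ c ∈ Co S, ¬ r ∣ c
  h2 : ∃ c ∈ Co S, r ^ (Nat.card S).factorization r ∣ c ∧ ¬ p ∣ c
  h3 : ∀ c ∈ Co S, c ≠ Nat.card S → r ∣ c → ¬ p ^ (Nat.card S).factorization p ∣ c
  h4 : ∀ c ∈ Co S, c ≠ Nat.card S → r ∣ c → p ∣ c →
      (∀ c' ∈ Co S, c' ≠ Nat.card S → r ∣ c' → c'.factorization p ≤ c.factorization p) ∨
      (∀ c' ∈ Co S, r ∣ c' → c' ∣ c → c'.factorization p = c.factorization p → c' = c)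

/-- the same with the value `m` of the centralizer orders divisible by `r` and prime to `p` -/
structure Lat (S : Type v) [Group S] (p r m : ℕ) : Prop where
  rS : r ∣ Nat.card S
  h0 : ∃ c ∈ Co S, ¬ r ∣ c
  mem : m ∈ Co S
  full : r ^ (Nat.card S).factorization r ∣ m
  pm : ¬ p ∣ m
  one : ∀ c ∈ Co S, c ≠ Nat.card S → r ∣ c → ¬ p ∣ c → c = m
  h3 : ∀ c ∈ Co S, c ≠ Nat.card S → r ∣ c → ¬ p ^ (Nat.card S).factorization p ∣ c
  h4 : ∀ c ∈ Co S, c ≠ Nat.card S → r ∣ c → p ∣ c →
      (∀ c' ∈ Co S, c' ≠ Nat.card S → r ∣ c' → c'.factorization p ≤ c.factorization p) ∨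
      (∀ c' ∈ Co S, r ∣ c' → c' ∣ c → c'.factorization p = c.factorization p → c' = c)

theorem Lat.toLatW {S : Type v} [Group S] {p r m : ℕ} (h : Lat S p r m) : LatW S p r :=
  ⟨h.h0, ⟨m, h.mem, h.full, h.pm⟩, h.h3, h.h4⟩

theorem LatW.noEdge {S : Type v} [Group S] [Finite S] {G : Type u} [Group G] [Finite G] {p r : ℕ} (h : LatW S p r)
    (hr : r.Prime) (hp : p.Prime) (hrp : r ≠ p) (hG : Same G S) : NoEdge G r p :=
  Cfsg.Agent.H370.AAM.noEdge hG.card hG.co hr hp hrp h.h0 h.h2 h.h3 h.h4

variable {S : Type v} [Group S] [Finite S] {G : Type u} [Group G] [Finite G] {p r m : ℕ}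

/-- an element whose order is divisible by `r` has a centralizer order divisible by `r` -/
theorem dvd_cent {x y : G} (h : Commute x y) {t : ℕ} (ht : t ∣ orderOf x) :
    t ∣ Nat.card (Subgroup.centralizer ({y} : Set G)) := by
  have := Subgroup.orderOf_mk x (mem_cent.2 h)
  exact ht.trans (this ▸ orderOf_dvd_natCard _)

/-- **The centralizer order of an `r`-element of `G` is `m`.** -/
theorem Lat.card_cent (h : Lat S p r m) (hr : r.Prime) (hp : p.Prime) (hrp : r ≠ p) (hG : Same G S) {y : G}
    (hy : r ∣ orderOf y) : Nat.card (Subgroup.centralizer ({y} : Set G)) = m := by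
  have hE := h.toLatW.noEdge hr hp hrp hG
  have hp' : ¬ p ∣ Nat.card (Subgroup.centralizer ({y} : Set G)) := by
    intro hd
    have := Fact.mk hp
    obtain ⟨v, hv⟩ := exists_prime_orderOf_dvd_card' p hd
    have hv' : orderOf (v : G) = p := by rw [← hv]; exact Subgroup.orderOf_coe v
    exact hE.false_of_dvd hr hp hrp (mem_cent.1 v.2).symm hy (hv' ▸ dvd_rfl)
  refine h.one _ (hG.mem y) ?_ (dvd_cent (Commute.refl y) hy) hp'
  intro hc
  have h1 : ¬ p ∣ Nat.card S := hc ▸ hp'
  obtain ⟨c, hc1, hc2⟩ := h.h0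
  obtain ⟨g, hg⟩ := hG.exists_of_mem hc1
  have h2 : Subgroup.centralizer ({y} : Set G) = ⊤ :=
    Subgroup.eq_top_of_card_eq _ (hc.trans hG.card.symm)
  apply hc2
  rw [← hg]
  exact dvd_cent (show Commute y g from (mem_cent.1 (h2 ▸ Subgroup.mem_top g)).symm) hy

end Cfsg.Agent.H431.CS
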