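import Mathlib
import Cfsg.Agent.H431.CS.Asm
import Cfsg.Agent.H137.TC7.Final
import Cfsg.Agent.H992.TC.Inst
import Cfsg.Agent.H992.TC.F4e
import Cfsg.Agent.H992.TC.G2
import Cfsg.Agent.H992.TC.E8
import Cfsg.Agent.H992.TC.TD4
import Cfsg.Agent.H35.TCSz
import Cfsg.Agent.H35.TCRee
import Cfsg.Agent.H92.TCTF4
import Cfsg.Agent.H368.SFacts

/-!
# S3677: the exceptional groups (helper431)

If `G` has the order and the class sizes of an exceptional group `S` of Lie type, then two centralizer orders of `S` are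
coprime, so `Z(G) = 1`, and S3582 applies.
-/

set_option autoImplicit false

namespace Cfsg.Agent.H431.CS

open Subgroup Cfsg Cfsg.Lie Cfsg.Agent.H370.AAM Cfsg.Agent.H992.TC Cfsg.Agent.H129.CycT Cfsg.Agent.H902
  Cfsg.Agent.H902.Art

universe u v

section

variable {G : Type u} [Group G] [Finite G] {S : Type v} [Group S] [Finite S]

/-- two coprime centralizer orders: the centre is trivial -/
theorem center_eq_bot (h : Same G S) {c d : ℕ} (hc : c ∈ Co S) (hd : d ∈ Co S) (hcd : c.Coprime d) :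
    center G = ⊥ := by
  obtain ⟨x, hx⟩ := h.exists_of_mem hc
  obtain ⟨y, hy⟩ := h.exists_of_mem hd
  have h1 : Nat.card (center G) ∣ c := hx ▸ card_dvd_of_le (center_le_centralizer _)
  have h2 : Nat.card (center G) ∣ d := hy ▸ card_dvd_of_le (center_le_centralizer _)
  exact Subgroup.card_eq_one.1 (Nat.dvd_one.1 (hcd ▸ Nat.dvd_gcd h1 h2))

theorem center_of_tt (h : Same G S) {m : ℕ} (hT : TT S m) (hm2 : ¬ 2 ∣ m) (h2 : 2 ∣ Nat.card S) : center G = ⊥ := by
  obtain ⟨x, hx, hxm⟩ := hT.ex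
  have := Fact.mk Nat.prime_two
  obtain ⟨t, ht⟩ := exists_prime_orderOf_dvd_card' 2 h2
  have ht1 : t ≠ 1 := by
    rintro rfl
    rw [orderOf_one] at ht
    omega
  refine center_eq_bot h (mem_co t) (hxm ▸ mem_co x) ?_
  rcases hT.two t ht1 with h3 | h3
  · exfalso
    apply hm2
    rw [← h3, ← ht]
    exact dvd_cent (Commute.refl t) dvd_rfl
  · exact h3

theorem center_of_cyc (h : Same G S) {m : ℕ} (hm : 1 < m) (hm6 : m.Coprime 6) (hT : CycExact S m)
    (h2 : 2 ∣ Nat.card S) : center G = ⊥ := by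
  refine center_of_tt h (tt_of_cycExact hm hT) (fun h3 => ?_) h2
  have h4 : 2 ∣ Nat.gcd m 6 := Nat.dvd_gcd h3 (by norm_num)
  rw [hm6] at h4
  exact absurd h4 (by norm_num)

end

section

variable {G : Type u} [Group G] [Finite G] {S : Type v} [Group S] [Finite S]

theorem center_g2 (hL : IsoChevG2 S) (h : Same G S) : center G = ⊥ := by
  obtain ⟨F, _, _, hF3, ⟨e⟩⟩ := hL
  obtain ⟨p, f, hp, hf, hF⟩ := Names.exists_pp F
  have : Finite (GL chevG2.Idx F) := inferInstance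
  have hex : ∃ a : F, a ≠ 0 ∧ a ≠ 1 := by
    classical
    by_contra hcon
    push Not at hcon
    have h1 : (Finset.univ : Finset F) ⊆ {0, 1} := by
      intro x _
      by_cases hx : x = 0
      · simp [hx]
      · simp [hcon x hx]
    have h2 := Finset.card_le_card h1
    have h3 : ({0, 1} : Finset F).card ≤ 2 := Finset.card_le_two
    rw [Finset.card_univ] at h2
    omega
  obtain ⟨hs, hnc⟩ := S1055.result (F := F) hex
  have h2 : 2 ∣ Nat.card ↥(chevG2.group F) := H364.two_dvd_card fun h => hnc ⟨⟨h⟩⟩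
  have hq3 : 3 ≤ p ^ f := hF ▸ hF3
  have h' := h.congr e
  by_cases h1 : p ^ f % 3 = 1
  · have h6 := G2.m6_six (q := p ^ f) (by omega) (by omega)
    refine center_of_cyc h' (m := G2.m6 (p ^ f)) ?_ h6 (exact_G2_6 hF (G2.m6_cast (by omega)) (fun hd => ?_)) h2
    · have : p ^ f < (p ^ f) ^ 2 := by nlinarith
      rw [G2.m6]; omega
    · have h5 : (3 : ℕ) ∣ Nat.gcd (G2.m6 (p ^ f)) 6 := Nat.dvd_gcd hd (by norm_num)
      rw [h6] at h5
      exact absurd h5 (by norm_num)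
  · have h3 := G2.m3_six (q := p ^ f) h1
    refine center_of_cyc h' (m := G2.m3 (p ^ f)) ?_ h3 (exact_G2_3 hF (G2.m3_cast _) (fun hd => ?_)) h2
    · rw [G2.m3]; omega
    · have h5 : (3 : ℕ) ∣ Nat.gcd (G2.m3 (p ^ f)) 6 := Nat.dvd_gcd hd (by norm_num)
      rw [h3] at h5
      exact absurd h5 (by norm_num)

theorem two_le_pow {p f : ℕ} (hp : p.Prime) (hf : 1 ≤ f) : 2 ≤ p ^ f :=
  hp.two_le.trans (Nat.le_self_pow (by omega) p)

theorem center_f4 (hL : IsoF4 S) (h : Same G S) : center G = ⊥ := by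
  obtain ⟨F, _, _, ⟨e⟩⟩ := hL
  obtain ⟨p, f, hp, hf, hF⟩ := Names.exists_pp F
  have : Finite (GL chevF4.Idx F) := inferInstance
  obtain ⟨hs, hnc⟩ := S1054.result (F := F) chevF4 (by simp)
  have hq := two_le_pow hp hf
  refine center_of_cyc (h.congr e) (one_lt_mm (Y := .F4) (Or.inl rfl) hq)
    (mm_coprime_six (Y := .F4) (Or.inl rfl) (q := p ^ f) (by omega)) (exact_F4_12 hF ?_)
    (H364.two_dvd_card fun h => hnc ⟨⟨h⟩⟩)
  show ((((p ^ f) ^ 4 - (p ^ f) ^ 2 + 1 : ℕ)) : ℤ) = _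
  rw [Nat.cast_add, Nat.cast_sub (le_pow _ (Nat.one_le_pow _ _ hp.pos) (by norm_num))]
  push_cast; ring

theorem center_e6 (hL : IsoChevE6 S) (h : Same G S) : center G = ⊥ := by
  obtain ⟨F, _, _, ⟨e⟩⟩ := hL
  obtain ⟨p, f, hp, hf, hF⟩ := Names.exists_pp F
  have : Finite (GL chevE6.Idx F) := inferInstance
  obtain ⟨hs, hnc⟩ := S1054.result (F := F) chevE6 (by simp)
  have hq := two_le_pow hp hf
  refine center_of_cyc (h.congr e) (one_lt_mm (Y := .E6) (Or.inr (Or.inl rfl)) hq)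
    (mm_coprime_six (Y := .E6) (Or.inr (Or.inl rfl)) (q := p ^ f) (by omega))
    (exact_E6_9 hF (N := (p ^ f) ^ 6 + (p ^ f) ^ 3 + 1) ?_)
    (H364.two_dvd_card fun h => hnc ⟨⟨h⟩⟩)
  push_cast; ring

theorem center_te6 (hL : Iso2E6 S) (h : Same G S) : center G = ⊥ := by
  obtain ⟨F, _, _, q, hq, hF, ⟨e⟩⟩ := hL
  obtain ⟨p, f, hp, hf, rfl⟩ := (isPrimePow_nat_iff _).1 hq
  have : Finite (GL chevE6.Idx F) := inferInstance
  obtain ⟨hs, hnc⟩ := S1070.result hq hF
  have hq2 := two_le_pow hp hf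
  refine center_of_cyc (h.congr e) (one_lt_mm (Y := .TE6) (Or.inr (Or.inr rfl)) hq2)
    (mm_coprime_six (Y := .TE6) (Or.inr (Or.inr rfl)) (q := p ^ f) (by omega))
    (exact_tE6_18 hq hF (N := (p ^ f) ^ 6 - (p ^ f) ^ 3 + 1) ?_)
    (H364.two_dvd_card fun h => hnc ⟨⟨h⟩⟩)
  rw [Nat.cast_add, Nat.cast_sub (le_pow _ (Nat.one_le_pow _ _ hp.pos) (by norm_num))]
  push_cast; ring

theorem center_e8 (hL : IsoE8 S) (h : Same G S) : center G = ⊥ := by
  obtain ⟨F, _, _, ⟨e⟩⟩ := hL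
  obtain ⟨p, f, hp, hf, hF⟩ := Names.exists_pp F
  have : Finite (GL chevE8.Idx F) := inferInstance
  obtain ⟨hs, hnc⟩ := S1054.result (F := F) chevE8 (by simp)
  have hq := two_le_pow hp hf
  have hlt := E8.m24_lt hq
  refine center_of_cyc (h.congr e) (m := E8.m24 (p ^ f)) (by omega) (E8.m24_coprime_six (by omega))
    (exact_E8_24 hF (E8.m24_cast (by omega))) (H364.two_dvd_card fun h => hnc ⟨⟨h⟩⟩)

theorem center_td4 (hL : Iso3D4 S) (h : Same G S) : center G = ⊥ := by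
  obtain ⟨F, _, _, q, hq, hF, ⟨e⟩⟩ := hL
  obtain ⟨p, f, hp, hf, rfl⟩ := (isPrimePow_nat_iff _).1 hq
  have : Finite (GL chevD4.Idx F) := inferInstance
  obtain ⟨hs, hnc⟩ := S1071.result hq hF
  have hq2 := two_le_pow hp hf
  refine center_of_cyc (h.congr e) (one_lt_mm (Y := .F4) (Or.inl rfl) hq2)
    (mm_coprime_six (Y := .F4) (Or.inl rfl) (q := p ^ f) (by omega)) (exact_tD4_12 hq hF ?_)
    (H364.two_dvd_card fun h => hnc ⟨⟨h⟩⟩)
  show ((((p ^ f) ^ 4 - (p ^ f) ^ 2 + 1 : ℕ)) : ℤ) = _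
  rw [Nat.cast_add, Nat.cast_sub (le_pow _ (Nat.one_le_pow _ _ hp.pos) (by norm_num))]
  push_cast; ring

theorem mem_of_cycExact {m : ℕ} (hm : 1 < m) (h : CycExact S m) : m ∈ Co S := by
  obtain ⟨x, -, hx⟩ := (tt_of_cycExact hm h).ex
  exact hx ▸ mem_co x

theorem center_e7 (hL : IsoE7 S) (h : Same G S) : center G = ⊥ := by
  obtain ⟨F, _, _, ⟨e⟩⟩ := hL
  obtain ⟨p, f, hp, hf, hF⟩ := Names.exists_pp F
  have : Finite (GL chevE7.Idx F) := inferInstance
  have : Finite ↥(chevE7.group F) := inferInstance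
  by_cases h4 : 4 ≤ p ^ f
  · have hT := H137.TC7.types_E7 hp hf hF h4
    have key : ∀ i, H137.TC7.tv (p ^ f) i ∈ Co ↥(chevE7.group F) := by
      intro i
      obtain ⟨g, -, hg⟩ := hT.ex i
      have h1 := (centralizer ({g} : Set ↥(chevE7.group F))).card_mul_index
      rw [← hg, mul_comm] at h1
      exact (Nat.eq_of_mul_eq_mul_left (Nat.pos_of_ne_zero index_ne_zero_of_finite) h1) ▸ mem_co g
    exact center_eq_bot (h.congr e) (key 0) (key 2) hT.t_coprime
  · have hF' : Fintype.card F = 2 ∨ Fintype.card F = 3 := by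
      have h1 : 1 < Fintype.card F := Fintype.one_lt_card
      omega
    rcases hF' with hF2 | hF3
    · exact center_eq_bot (h.congr e)
        (mem_of_cycExact (m := 127) (by norm_num) (exact_E7_7 hF2 (by omega) (by norm_num)))
        (mem_of_cycExact (m := 73) (by norm_num) (exact_E7_9 hF2 (by omega) (by norm_num))) (by norm_num)
    · exact center_eq_bot (h.congr e)
        (mem_of_cycExact (m := 1093) (by norm_num) (exact_E7_7 hF3 (by omega) (by norm_num)))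
        (mem_of_cycExact (m := 757) (by norm_num) (exact_E7_9 hF3 (by omega) (by norm_num))) (by norm_num)

theorem center_tf4 (hL : Iso2F4 S) (h : Same G S) : center G = ⊥ := by
  obtain ⟨K, _, _, m, hm, hK, ⟨e⟩⟩ := hL
  obtain ⟨hs, hnc⟩ := S1072.result hm hK
  have hfin : Finite (GL chevF4.Idx K) := inferInstance
  have hLfin : Finite ↥(twistedF4 K (2 ^ m)) := inferInstance
  obtain ⟨q, hq⟩ : ∃ q, q = 2 ^ (2 * m + 1) := ⟨_, rfl⟩
  obtain ⟨P, N, D⟩ := H541.PRegTF4.exists_par hm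
  rw [← hq] at D
  have hcard : Nat.card ↥(twistedF4 K (2 ^ m)) = q ^ 12 * ((q - 1) * (q ^ 3 + 1) * (q ^ 4 - 1) * (q ^ 6 + 1)) := by
    rw [S1068.result hK, ← hq]; ring
  have hPb := H92.TCTF4.P_bd D
  have hodd := H92.TCTF4.P_odd D
  have hq8 : 8 ≤ q := D.q_le
  have hPm : 1 < P := by omega
  exact center_of_tt (h.congr e) (tt_of_cycExact hPm (H92.TCTF4.exact_P hK hq D hcard)) hodd
    (H364.two_dvd_card fun h => hnc ⟨⟨h⟩⟩)

/-- an element of order an odd prime in a nonabelian simple group -/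
theorem exists_odd [IsSimpleGroup S] (hna : ¬ IsMulCommutative S) : ∃ r, r.Prime ∧ r ≠ 2 ∧ r ∣ Nat.card S := by
  by_contra hcon
  push Not at hcon
  have := Fact.mk Nat.prime_two
  have hp : IsPGroup 2 S := by
    rw [IsPGroup.iff_card]
    refine ⟨_, Nat.eq_prime_pow_of_unique_prime_dvd Nat.card_pos.ne' fun {d} hd hdS => ?_⟩
    by_contra hne
    exact hcon d hd hne hdS
  have h1 := hp.center_nontrivial
  rcases (inferInstance : (center S).Normal).eq_bot_or_eq_top with h | h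
  · rw [h] at h1
    exact (not_nontrivial _ h1)
  · exact hna ⟨⟨fun a b => by
      have hb : b ∈ center S := h ▸ mem_top b
      exact mem_center_iff.1 hb a⟩⟩

theorem center_sz [IsSimpleGroup S] (hna : ¬ IsMulCommutative S) (hL : IsoSuzuki S) (h : Same G S) :
    center G = ⊥ := by
  have h2 : 2 ∣ Nat.card S := H364.two_dvd_card fun h => hna ⟨⟨h⟩⟩
  obtain ⟨r, hr, hr2, hrS⟩ := exists_odd hna
  have := Fact.mk Nat.prime_two
  have := Fact.mk hr
  obtain ⟨t, ht⟩ := exists_prime_orderOf_dvd_card' 2 h2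
  obtain ⟨x, hx⟩ := exists_prime_orderOf_dvd_card' r hrS
  have ht2 := SignalizersComponents.BalEndSz.isPGroup_centralizer_suzuki hL ht
  obtain ⟨a, ha⟩ := IsPGroup.iff_card.1 ht2
  refine center_eq_bot h (mem_co t) (mem_co x) ?_
  rw [ha]
  refine Nat.Coprime.pow_left a ((Nat.Prime.coprime_iff_not_dvd Nat.prime_two).2 fun hd => ?_)
  obtain ⟨v, hv⟩ := exists_prime_orderOf_dvd_card' 2 hd
  have hv' : orderOf (v : S) = 2 := by rw [← hv]; exact Subgroup.orderOf_coe v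
  have hP := SignalizersComponents.BalEndSz.isPGroup_centralizer_suzuki hL hv'
  obtain ⟨b, hb⟩ := IsPGroup.iff_card.1 hP
  have h3 : r ∣ Nat.card (centralizer ({(v : S)} : Set S)) :=
    dvd_cent (show Commute x (v : S) from (mem_cent.1 v.2).symm) (hx ▸ dvd_rfl)
  rw [hb] at h3
  exact hr2 ((Nat.prime_dvd_prime_iff_eq hr Nat.prime_two).1 (hr.dvd_of_dvd_pow h3))

theorem center_ree (hL : IsoRee S) (h : Same G S) : center G = ⊥ := by
  obtain ⟨K, i1, i2, m, hm, hK, ⟨e⟩⟩ := hL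
  obtain ⟨hfin', hRG, -⟩ := H362.ReeMain.ree_vals hm hK
  obtain ⟨q, hq⟩ : ∃ q, q = 3 ^ (2 * m + 1) := ⟨_, rfl⟩
  obtain ⟨s, hs⟩ : ∃ s, s = 3 ^ (2 * m + 1) - 3 ^ (m + 1) + 1 := ⟨_, rfl⟩
  obtain ⟨t, ht⟩ : ∃ t, t = 3 ^ (2 * m + 1) + 3 ^ (m + 1) + 1 := ⟨_, rfl⟩
  obtain ⟨n8, nst, ns1, nlt, ncop, n2, n3, n703, n58, n27⟩ := H362.ReeMain.nums hm hq hs ht
  rw [← hq] at hRG
  have hq1 : 1 ≤ q := by rw [hq]; exact Nat.one_le_pow _ _ (by norm_num)
  have hLn : Nat.card ↥(twistedG2 K (3 ^ m)) = q ^ 3 * (q ^ 3 + 1) * (q - 1) := by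
    have : (Nat.card ↥(twistedG2 K (3 ^ m)) : ℤ) = ((q ^ 3 * (q ^ 3 + 1) * (q - 1) : ℕ) : ℤ) := by
      rw [hRG]
      unfold H362.ReeNum.vG
      push_cast [Nat.cast_sub hq1]
      ring
    exact_mod_cast this
  have hstL : s * t ∣ Nat.card ↥(twistedG2 K (3 ^ m)) := by
    refine ⟨q ^ 3 * (q + 1) * (q - 1), ?_⟩
    rw [hLn]
    have h1 : q ^ 3 + 1 = (q + 1) * (s * t) := by
      have h2 : s * t + q = q ^ 2 + 1 := nst
      nlinarith
    rw [h1]; ring
  have key : ∀ w : ℕ, (w = s ∨ w = t) → ∃ c ∈ Co ↥(twistedG2 K (3 ^ m)), c ∣ w := by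
    intro w hw
    have hw1 : w ≠ 1 := by rcases hw with rfl | rfl <;> omega
    have hwd : w ∣ Nat.card ↥(twistedG2 K (3 ^ m)) := by
      rcases hw with rfl | rfl
      · exact (Dvd.intro _ rfl).trans hstL
      · exact (Dvd.intro_left _ rfl).trans hstL
    obtain ⟨r, hr, hrw⟩ := Nat.exists_prime_and_dvd hw1
    have := Fact.mk hr
    obtain ⟨x, hx⟩ := exists_prime_orderOf_dvd_card' r (hrw.trans hwd)
    have hx1 : x ≠ 1 := by
      rintro rfl
      rw [orderOf_one] at hx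
      exact hr.one_lt.ne hx
    exact ⟨_, mem_co x, H35.TCRee.card_centralizer_dvd hm hK (by rw [← hs, ← ht]; exact hw) hx1 hr hrw
      (hx ▸ dvd_cent (Commute.refl x) dvd_rfl)⟩
  obtain ⟨c, hc, hcs⟩ := key s (Or.inl rfl)
  obtain ⟨d, hd, hdt⟩ := key t (Or.inr rfl)
  exact center_eq_bot (h.congr e) hc hd (Nat.Coprime.of_dvd hcs hdt ncop)

end

/-- **The exceptional groups.** -/
theorem row_exceptional {G : Type u} [Group G] [Finite G] {S : Type v} [Group S] [Finite S] [IsSimpleGroup S]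
    (hna : ¬ IsMulCommutative S)
    (hS : IsExceptionalLieType S) (h : Same G S)
    (ht : IsoTits S → Nonempty (G ≃* S)) : Nonempty (G ≃* S) := by
  rcases hS with hL | hL | hL | hL | hL | hL | hL | hL | hL | hL | hL
  · exact H992.TC.g2 hL (center_g2 hL h) h.cs
  · exact H992.TC.f4 hL (center_f4 hL h) h.cs
  · exact H992.TC.e6 hL (center_e6 hL h) h.cs
  · exact H137.TC7.e7 hL (center_e7 hL h) h.cs
  · exact H992.TC.e8 hL (center_e8 hL h) h.cs
  · exact H992.TC.te6 hL (center_te6 hL h) h.cs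
  · exact H992.TC.triD4 hL (center_td4 hL h) h.cs
  · exact H35.TCSz.sz hL (center_sz hna hL h) h.cs
  · exact H35.TCRee.ree hL (center_ree hL h) h.cs
  · exact H92.TCTF4.tf4 hL (center_tf4 hL h) h.cs
  · exact ht hL

end Cfsg.Agent.H431.CS
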